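import Groth.Agent.Vanish.K31.GoodRow
import Groth.Agent.Vanish.K88.BigPull
import Groth.Agent.Vanish.K911.Ncd
import Groth.Agent.Vanish.K661.MemPull
import Groth.Agent.S0927
import Groth.Agent.S5683

/-!
# Kollár vanishing with a divisor: the rows S16907, S17122, S17126

`KolvD k`: the vanishing `H^c(Z, R^b f_*(ω ⊗ L)) = 0` for `M = L^N(-D)` with `PosP` on an alteration, and an effective
power of `M` minus an ample class of the base. The three rows are deduced from it.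
-/

set_option autoImplicit false
universe u
open CategoryTheory CategoryTheory.Limits AlgebraicGeometry Opposite TopologicalSpace

namespace Groth.Agent.Vanish.K912.KolRows

open Groth.Agent Groth.Agent.Grpsch.PicGrp Groth.Agent.Fga.JacFactor Groth.Agent.Divis.EffCartier
  Groth.Agent.Fdesc.LocGen Groth.Agent.Fga.PicMon
open K931.Eff K660.Semi K660.InjP K909.Kleiman K910.HZ K660.KolUp K31.GoodA

/-- `L^N(-Σ α_j D_j)`. -/
noncomputable abbrev tw {X : Scheme.{u}} (L : X.Modules) (N : ℕ) {r : ℕ} (D : Fin r → X.IdealSheafData) (α : Fin r → ℕ) : X.Modules :=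
  CohB1.tensorMod (CohB1.tensorPow L N) (ClSub.idealMod (∏ j, D j ^ α j))

/-- Kollár vanishing with a divisor, for classes which satisfy `PosP` on an alteration. -/
def KolvD (k : Type u) [Field k] : Prop :=
  ∀ (X : Scheme.{u}) [X.Over (Spec (CommRingCat.of k))] [IsIntegral X] [IsProper (X ↘ Spec (CommRingCat.of k))]
    [Smooth (X ↘ Spec (CommRingCat.of k))] (n : ℕ) (_ : topologicalKrullDim X = n)
    (HX : X.Modules) (_ : CohB1.IsAmple HX)
    (Z : Scheme.{u}) [Z.Over (Spec (CommRingCat.of k))] [IsIntegral Z] [IsProper (Z ↘ Spec (CommRingCat.of k))]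
    (HZ : Z.Modules) (_ : CohB1.IsAmple HZ)
    (f : X ⟶ Z) (_ : f ≫ (Z ↘ Spec (CommRingCat.of k)) = X ↘ Spec (CommRingCat.of k)) [Surjective f]
    (ω : X.Modules) (_ : ExtPow.IsExtPow n (Omega.sheaf (X ↘ Spec (CommRingCat.of k))) ω)
    (L : X.Modules) (_ : PicF.IsInvertible L)
    (N : ℕ) (_ : 1 ≤ N) (r : ℕ) (D : Fin r → X.IdealSheafData) (_ : LogNCD.IsNCD D (X ↘ Spec (CommRingCat.of k)))
    (α : Fin r → ℕ) (_ : ∀ j, 0 < α j ∧ α j < N) (hM : PicF.IsInvertible (tw L N D α))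
    (X₁ : Scheme.{u}) (p : X₁ ⟶ X) [IsIntegral X₁] [IsProper p] [Surjective p]
    [Smooth (p ≫ (X ↘ Spec (CommRingCat.of k)))] (_ : topologicalKrullDim X₁ = topologicalKrullDim X)
    (A₁ : X₁.Modules) (_ : CohB1.IsAmple A₁) (_ : PosP (pull p (mk (tw L N D α) hM)))
    (μ : ℕ) (_ : 0 < μ) (a : Pic Z) (_ : Amp a) (_ : Eff (mk (tw L N D α) hM ^ μ / pull f a))
    [HasInjectiveResolutions X.Modules] (b c : ℕ) (_ : 0 < c),
    Subsingleton (Coh.HH Z ((Coh.Rpush f b).obj (CohB1.tensorMod ω L)) c)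

/-- The class of `L^N(-Σ α_j D_j)`. -/
theorem mk_tw {X : Scheme.{u}} {L : X.Modules} (hL : PicF.IsInvertible L) (N : ℕ) {r : ℕ} {D : Fin r → X.IdealSheafData}
    {α : Fin r → ℕ} (hM : PicF.IsInvertible (tw L N D α)) (hE : BlowUp.IsEffCartierIdeal (∏ j, D j ^ α j)) :
    mk (tw L N D α) hM = mk L hL ^ N * dcl _ hE := by
  have h2 : mk _ hM = mk _ (isInvertible_tensorPow hL N) * dcl _ hE := rfl
  rw [h2, mk_tensorPow hL]

theorem posP_mul_sa {X : Scheme.{u}} {s c : Pic X} (hs : SA s) (hc : PosP c) : PosP (s * c) := by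
  obtain ⟨C, hC, h⟩ := hc
  refine ⟨C, hC, fun N₀ => ?_⟩
  obtain ⟨N, hN, hsa⟩ := h N₀
  refine ⟨N, hN, ?_⟩
  rw [mul_pow, mul_assoc]
  exact (hs.pow N).mul hsa

theorem posP_pow {X : Scheme.{u}} {c : Pic X} (hc : PosP c) (N : ℕ) : PosP (c ^ N) := by
  obtain ⟨C, hC, h⟩ := hc
  refine ⟨C ^ N, K31.GoodA.isEff_pow hC N, fun N₀ => ?_⟩
  obtain ⟨M, hM, hsa⟩ := h N₀
  refine ⟨M, hM, ?_⟩
  rw [K31.GoodA.dcl_pow, ← pow_mul, mul_comm N M, pow_mul, ← mul_pow]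
  exact hsa.pow N

theorem eff_of_ggc {X : Scheme.{u}} [Nonempty X] {c : Pic X} (h : GGc c) : Eff c := by
  obtain ⟨L, hL, rfl, hg⟩ := h
  obtain ⟨s, hs⟩ := Ega1.GlobGenPt.exists_mem_genLocus hL hg (Classical.arbitrary X)
  exact (eff_mk hL).mpr ⟨s, ne_zero_of_mem_genLocus s hs⟩

/-- S17122 from `KolvD` and `GOOD`. -/
theorem row17122 (k : Type u) [Field k] [IsAlgClosed k] [CharZero k] (hK : KolvD.{u} k)
    (hAlt : K909.AltInterface.Alt.{u} k) (hDl : K31.Good.Dlem.{u} k) (hI : K31.Good.Iit.{u} k)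
    (X : Scheme.{u}) [X.Over (Spec (CommRingCat.of k))] [IsProper (X ↘ Spec (CommRingCat.of k))]
    [Smooth (X ↘ Spec (CommRingCat.of k))] [IrreducibleSpace X] (n : ℕ) (hn : topologicalKrullDim X = n)
    (HX : X.Modules) (hHX : CohB1.IsAmple HX)
    (Z : Scheme.{u}) [Z.Over (Spec (CommRingCat.of k))] [IsIntegral Z] [IsProper (Z ↘ Spec (CommRingCat.of k))]
    (HZ : Z.Modules) (hHZ : CohB1.IsAmple HZ)
    (f : X ⟶ Z) (hf : f ≫ (Z ↘ Spec (CommRingCat.of k)) = X ↘ Spec (CommRingCat.of k)) [Surjective f]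
    (ω : X.Modules) (hω : ExtPow.IsExtPow n (Omega.sheaf (X ↘ Spec (CommRingCat.of k))) ω)
    (L : X.Modules) (hL : PicF.IsInvertible L)
    (N : ℕ) (hN : 1 ≤ N) {r : ℕ} (D : Fin r → X.IdealSheafData) (hD : LogNCD.IsNCD D (X ↘ Spec (CommRingCat.of k)))
    (α : Fin r → ℕ) (hα : ∀ j, 0 < α j ∧ α j < N)
    (Minv : X.Modules) (hMinv : ClSub.IsInverseOf Minv (CohB1.tensorMod (CohB1.tensorPow L N) (ClSub.idealMod (∏ j, D j ^ α j))))
    (hnef : (∀ (Y : Scheme.{u}) (i : Y ⟶ X) [IsClosedImmersion i], IsIntegral Y → topologicalKrullDim Y = 1 →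
      0 ≤ Pic13.curveDeg k (i ≫ (X ↘ Spec (CommRingCat.of k))) ((Scheme.Modules.pullback i).obj (CohB1.tensorMod (CohB1.tensorPow L N) (ClSub.idealMod (∏ j, D j ^ α j))))))
    (hgood : ∃ m : ℕ, ((∀ (V : Scheme.{u}) (i : V ⟶ X) [IsClosedImmersion i], IsIntegral V → topologicalKrullDim V = ((m + 1) : ℕ) →
          FGA.intNum k X n (fun _ : Fin (m + 1) => Minv) ((Scheme.Modules.pushforward i).obj (Coh.structureModule V)) = 0) ∧ ¬ (∀ (V : Scheme.{u}) (i : V ⟶ X) [IsClosedImmersion i], IsIntegral V → topologicalKrullDim V = ((m) : ℕ) →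
          FGA.intNum k X n (fun _ : Fin (m) => Minv) ((Scheme.Modules.pushforward i).obj (Coh.structureModule V)) = 0)) ∧ ((∃ ν a : ℕ, 0 < ν ∧ 0 < a ∧ ∀ μ : ℕ, 1 ≤ μ →
          μ ^ (m) ≤ a * Module.finrank k (Coh.HH X (CohB1.tensorPow (CohB1.tensorMod (CohB1.tensorPow L N) (ClSub.idealMod (∏ j, D j ^ α j))) (ν * μ)) 0)) ∧ ¬ (∃ ν a : ℕ, 0 < ν ∧ 0 < a ∧ ∀ μ : ℕ, 1 ≤ μ →
          μ ^ (m + 1) ≤ a * Module.finrank k (Coh.HH X (CohB1.tensorPow (CohB1.tensorMod (CohB1.tensorPow L N) (ClSub.idealMod (∏ j, D j ^ α j))) (ν * μ)) 0))))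
    (hcont : ∃ (μ : ℕ) (Ha : Z.Modules) (φ : (Scheme.Modules.pullback f).obj Ha ⟶ CohB1.tensorPow (CohB1.tensorMod (CohB1.tensorPow L N) (ClSub.idealMod (∏ j, D j ^ α j))) μ), 0 < μ ∧ CohB1.IsAmple Ha ∧ Mono φ)
    [HasInjectiveResolutions X.Modules] (b c : ℕ) (hc : 0 < c) :
    Subsingleton (Coh.HH Z ((Coh.Rpush f b).obj (CohB1.tensorMod ω L)) c) := by
  have hX : IsIntegral X := K802.GoodPoint.isIntegral_of_smooth (X ↘ Spec (CommRingCat.of k))
  have hM : PicF.IsInvertible (CohB1.tensorMod (CohB1.tensorPow L N) (ClSub.idealMod (∏ j, D j ^ α j))) :=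
    (Dix.IdealModCartier.isInvertible_of_isInverseOf hMinv).2
  obtain ⟨m, ⟨hN1, -⟩, hgrow, -⟩ := hgood
  obtain ⟨X₁, p, A₁, hX₁, hsm, hp, hps, hdim, hA₁, hP⟩ := K31.Good.good hAlt hDl hI n hn HX hHX (tw L N D α) Minv hM hMinv
    hnef m (fun V i _ hV hdim => hN1 V i hV hdim) hgrow
  obtain ⟨μ, Ha, φ, hμ, hHa, hφ⟩ := hcont
  have hE := (exists_mono_iff (isInvertible_pullback f hHa.1) (isInvertible_tensorPow hM μ)).mp ⟨φ, hφ⟩
  rw [mk_tensorPow hM, ← pull_mk f hHa.1] at hE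
  exact hK X n hn HX hHX Z HZ hHZ f hf ω hω L hL N hN r D hD α hα hM X₁ p hdim A₁ hA₁ hP μ hμ _
    ((amp_mk hHa.1).mpr hHa) hE b c hc

/-- S16907 from `KolvD` and `GOOD`. -/
theorem row16907 (k : Type u) [Field k] [IsAlgClosed k] [CharZero k] (hK : KolvD.{u} k)
    (hAlt : K909.AltInterface.Alt.{u} k) (hDl : K31.Good.Dlem.{u} k) (hI : K31.Good.Iit.{u} k)
    (X : Scheme.{u}) [X.Over (Spec (CommRingCat.of k))] [IsProper (X ↘ Spec (CommRingCat.of k))]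
    [Smooth (X ↘ Spec (CommRingCat.of k))] [IrreducibleSpace X] (n : ℕ) (hn : topologicalKrullDim X = n)
    (HX : X.Modules) (hHX : CohB1.IsAmple HX)
    (Z : Scheme.{u}) [Z.Over (Spec (CommRingCat.of k))] [IsIntegral Z] [IsProper (Z ↘ Spec (CommRingCat.of k))]
    (HZ : Z.Modules) (hHZ : CohB1.IsAmple HZ)
    (f : X ⟶ Z) (hf : f ≫ (Z ↘ Spec (CommRingCat.of k)) = X ↘ Spec (CommRingCat.of k)) [Surjective f]
    (ω : X.Modules) (hω : ExtPow.IsExtPow n (Omega.sheaf (X ↘ Spec (CommRingCat.of k))) ω)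
    (L Linv : X.Modules) (hL : PicF.IsInvertible L) (hLinv : ClSub.IsInverseOf Linv L)
    (hnef : (∀ (Y : Scheme.{u}) (i : Y ⟶ X) [IsClosedImmersion i], IsIntegral Y → topologicalKrullDim Y = 1 →
      0 ≤ Pic13.curveDeg k (i ≫ (X ↘ Spec (CommRingCat.of k))) ((Scheme.Modules.pullback i).obj L)))
    (hgood : ∃ m : ℕ, ((∀ (V : Scheme.{u}) (i : V ⟶ X) [IsClosedImmersion i], IsIntegral V → topologicalKrullDim V = ((m + 1) : ℕ) →
          FGA.intNum k X n (fun _ : Fin (m + 1) => Linv) ((Scheme.Modules.pushforward i).obj (Coh.structureModule V)) = 0) ∧ ¬ (∀ (V : Scheme.{u}) (i : V ⟶ X) [IsClosedImmersion i], IsIntegral V → topologicalKrullDim V = ((m) : ℕ) →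
          FGA.intNum k X n (fun _ : Fin (m) => Linv) ((Scheme.Modules.pushforward i).obj (Coh.structureModule V)) = 0)) ∧ ((∃ ν a : ℕ, 0 < ν ∧ 0 < a ∧ ∀ μ : ℕ, 1 ≤ μ →
          μ ^ (m) ≤ a * Module.finrank k (Coh.HH X (CohB1.tensorPow L (ν * μ)) 0)) ∧ ¬ (∃ ν a : ℕ, 0 < ν ∧ 0 < a ∧ ∀ μ : ℕ, 1 ≤ μ →
          μ ^ (m + 1) ≤ a * Module.finrank k (Coh.HH X (CohB1.tensorPow L (ν * μ)) 0))))
    (hcont : ∃ (μ : ℕ) (Ha : Z.Modules) (φ : (Scheme.Modules.pullback f).obj Ha ⟶ CohB1.tensorPow L μ), 0 < μ ∧ CohB1.IsAmple Ha ∧ Mono φ)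
    [HasInjectiveResolutions X.Modules] (b c : ℕ) (hc : 0 < c) :
    Subsingleton (Coh.HH Z ((Coh.Rpush f b).obj (CohB1.tensorMod ω L)) c) := by
  have hX : IsIntegral X := K802.GoodPoint.isIntegral_of_smooth (X ↘ Spec (CommRingCat.of k))
  have hE0 : BlowUp.IsEffCartierIdeal (∏ j : Fin 0, (Fin.elim0 j : X.IdealSheafData) ^ (Fin.elim0 j : ℕ)) := by
    rw [Finset.univ_eq_empty, Finset.prod_empty]
    exact isEff_top
  have hM : PicF.IsInvertible (tw L 1 (fun j : Fin 0 => (Fin.elim0 j : X.IdealSheafData)) (fun j : Fin 0 => (Fin.elim0 j : ℕ))) :=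
    isInvertible_tensorMod (isInvertible_tensorPow hL 1) (Dix.IdealModCartier.isInvertible_idealMod hE0)
  have hcl : mk (tw L 1 (fun j : Fin 0 => (Fin.elim0 j : X.IdealSheafData)) (fun j : Fin 0 => (Fin.elim0 j : ℕ))) hM =
      mk L hL := by
    have h1 : mk _ hM = mk _ (isInvertible_tensorPow hL 1) * dcl _ hE0 := rfl
    rw [h1, mk_tensorPow hL, pow_one]
    have h2 : ∀ (D : X.IdealSheafData) (hD : BlowUp.IsEffCartierIdeal D), D = ⊤ → dcl D hD = 1 := by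
      rintro _ hD rfl
      exact dcl_top
    rw [h2 _ _ (by rw [Finset.univ_eq_empty, Finset.prod_empty]; rfl), mul_one]
  obtain ⟨m, ⟨hN1, -⟩, hgrow, -⟩ := hgood
  obtain ⟨X₁, p, A₁, hX₁, hsm, hp, hps, hdim, hA₁, hP⟩ := K31.Good.good hAlt hDl hI n hn HX hHX L Linv hL hLinv
    hnef m (fun V i _ hV hdim => hN1 V i hV hdim) hgrow
  obtain ⟨μ, Ha, φ, hμ, hHa, hφ⟩ := hcont
  have hE := (exists_mono_iff (isInvertible_pullback f hHa.1) (isInvertible_tensorPow hL μ)).mp ⟨φ, hφ⟩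
  rw [mk_tensorPow hL, ← pull_mk f hHa.1] at hE
  refine hK X n hn HX hHX Z HZ hHZ f hf ω hω L hL 1 le_rfl 0 _ ?_ _ (fun j => j.elim0) hM X₁ p hdim A₁ hA₁ ?_ μ hμ _
    ((amp_mk hHa.1).mpr hHa) ?_ b c hc
  · exact fun x hx => hx.elim fun i => i.1.elim0
  · rw [hcl]; exact hP
  · rw [hcl]; exact hE

/-- The growth condition of the rows gives bigness. -/
theorem big_of_row (k : Type u) [Field k] {Z : Scheme.{u}} [Z.Over (Spec (CommRingCat.of k))] [IsIntegral Z]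
    [IsProper (Z ↘ Spec (CommRingCat.of k))] (m : ℕ) (hm : topologicalKrullDim Z = m) {H : Z.Modules}
    (hH : CohB1.IsAmple H) {K : Z.Modules} (hK : PicF.IsInvertible K) {ν a : ℕ} (ha : 0 < a)
    (h : ∀ μ : ℕ, 1 ≤ μ → μ ^ m ≤ a * Module.finrank k (Coh.HH Z (CohB1.tensorPow K (ν * μ)) 0)) :
    Big (mk K hK ^ ν) := by
  rw [← mk_tensorPow hK ν, big_mk_iff]
  refine K931.BigGrowth.big_of_growth (k := k) m hm hH (isInvertible_tensorPow hK ν) ?_
  rw [K931.BigGrowth.growth_iff]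
  refine ⟨1 / a, by positivity, 1, fun μ hμ => ?_⟩
  have h1 := h μ hμ
  rw [one_div, ← div_eq_inv_mul, div_le_iff₀ (by exact_mod_cast ha)]
  have h2 : HZ k Z (mc (CohB1.tensorPow K ν) ^ μ) = Module.finrank k (Coh.HH Z (CohB1.tensorPow K (ν * μ)) 0) := by
    rw [← HZ_mc, mc_tensorPow, mc_tensorPow, ← pow_mul]
  rw [h2, mul_comm]
  exact_mod_cast h1

/-- S17126 from `KolvD`. -/
theorem row17126 (k : Type u) [Field k] [IsAlgClosed k] [CharZero k] (hKv : KolvD.{u} k)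
    (X : Scheme.{u}) [X.Over (Spec (CommRingCat.of k))] [IsProper (X ↘ Spec (CommRingCat.of k))]
    [Smooth (X ↘ Spec (CommRingCat.of k))] [IrreducibleSpace X] (n : ℕ) (hn : topologicalKrullDim X = n)
    (HX : X.Modules) (hHX : CohB1.IsAmple HX)
    (Z : Scheme.{u}) [Z.Over (Spec (CommRingCat.of k))] [IsIntegral Z] [IsProper (Z ↘ Spec (CommRingCat.of k))]
    (m : ℕ) (hm : topologicalKrullDim Z = m) (HZ : Z.Modules) (hHZ : CohB1.IsAmple HZ)
    (f : X ⟶ Z) (hf : f ≫ (Z ↘ Spec (CommRingCat.of k)) = (X ↘ Spec (CommRingCat.of k))) [Surjective f]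
    (ω : X.Modules) (hω : ExtPow.IsExtPow n (Omega.sheaf (X ↘ Spec (CommRingCat.of k))) ω)
    (L : X.Modules) (hL : PicF.IsInvertible L)
    (N : ℕ) (hN : 1 ≤ N) {r : ℕ} (D : Fin r → X.IdealSheafData) (hD : LogNCD.IsNCD D (X ↘ Spec (CommRingCat.of k)))
    (α : Fin r → ℕ) (hα : ∀ j, 0 < α j ∧ α j < N)
    (hsa : ∃ μ : ℕ, 0 < μ ∧ Curv2.IsGloballyGenerated (CohB1.tensorPow (CohB1.tensorMod (CohB1.tensorPow L N) (ClSub.idealMod (∏ j, D j ^ α j))) μ))
    (K : Z.Modules) (hK : PicF.IsInvertible K)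
    (hKnef : (∀ (Y : Scheme.{u}) (i : Y ⟶ Z) [IsClosedImmersion i], IsIntegral Y → topologicalKrullDim Y = 1 →
      0 ≤ Pic13.curveDeg k (i ≫ (Z ↘ Spec (CommRingCat.of k))) ((Scheme.Modules.pullback i).obj K)))
    (hKbig : ∃ ν a : ℕ, 0 < ν ∧ 0 < a ∧ ∀ μ : ℕ, 1 ≤ μ →
        μ ^ m ≤ a * Module.finrank k (Coh.HH Z (CohB1.tensorPow K (ν * μ)) 0))
    [HasInjectiveResolutions X.Modules] (b c : ℕ) (hc : 0 < c) :
    Subsingleton (Coh.HH Z (CohB1.tensorMod K ((Coh.Rpush f b).obj (CohB1.tensorMod ω L))) c) := by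
  have hX : IsIntegral X := K802.GoodPoint.isIntegral_of_smooth (X ↘ Spec (CommRingCat.of k))
  obtain ⟨ν, a, hν, ha, hgr⟩ := hKbig
  have hZc : CompactSpace Z := K931.Basic.compactSpace k Z
  have hZs : Z.IsSeparated := K931.Basic.isSeparated k Z
  have hbig : Big (mk K hK ^ ν) := big_of_row k m hm hHZ hK ha hgr
  have hnefc : NefC k Z (mk K hK) := (nef_iff_nefC k Z hK).mp hKnef
  have hposZ : PosP (mk K hK) := posP_of_nef (k := k) m hm.le hnefc ((amp_mk hHZ.1).mpr hHZ) hbig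
  -- the divisor
  have hEff : BlowUp.IsEffCartierIdeal (∏ j, D j ^ α j) :=
    K661.MemPull.isEff_prod_pow' _ D (fun j => K911.Ncd.isEff_of_isNCD hD j) α
  have hfK := isInvertible_pullback f hK
  have hL' : PicF.IsInvertible (CohB1.tensorMod L ((Scheme.Modules.pullback f).obj K)) := isInvertible_tensorMod hL hfK
  have hM : PicF.IsInvertible (tw L N D α) :=
    isInvertible_tensorMod (isInvertible_tensorPow hL N) (Dix.IdealModCartier.isInvertible_idealMod hEff)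
  have hM' : PicF.IsInvertible (tw (CohB1.tensorMod L ((Scheme.Modules.pullback f).obj K)) N D α) :=
    isInvertible_tensorMod (isInvertible_tensorPow hL' N) (Dix.IdealModCartier.isInvertible_idealMod hEff)
  have hcl : mk _ hM' = mk _ hM * pull f (mk K hK) ^ N := by
    have h1 : mk _ hM' = mk _ (isInvertible_tensorPow hL' N) * dcl _ hEff := rfl
    have h2 : mk _ hM = mk _ (isInvertible_tensorPow hL N) * dcl _ hEff := rfl
    rw [h1, h2, mk_tensorPow hL', mk_tensorPow hL, ← mk_mul_mk hL hfK, ← pull_mk f hK, mul_pow]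
    exact mul_right_comm _ _ _
  have hSA : SA (mk _ hM) := (sa_mk hM).mpr hsa
  have hηf : f (genericPoint X) = genericPoint Z := K31.SectB.map_genericPoint f
  have hpos : PosP (mk _ hM') := by
    rw [hcl]
    exact posP_mul_sa hSA (posP_pow (posP_pull f hηf hposZ) N)
  obtain ⟨s, hs, hgg⟩ := hSA
  -- an effective difference
  obtain ⟨e, he, hEe⟩ := hbig (mk HZ hHZ.1) ((amp_mk hHZ.1).mpr hHZ)
  have hE : Eff (mk _ hM' ^ (s * (ν * e)) / pull f (mk HZ hHZ.1 ^ (N * s))) := by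
    have h1 : mk _ hM' ^ (s * (ν * e)) / pull f (mk HZ hHZ.1 ^ (N * s)) =
        (mk _ hM ^ s) ^ (ν * e) * pull f (((mk K hK ^ ν) ^ e / mk HZ hHZ.1) ^ (N * s)) := by
      rw [hcl, mul_pow, ← pow_mul (mk _ hM), map_pow, map_pow, map_div, map_pow, map_pow, div_pow, ← pow_mul, ← pow_mul,
        ← pow_mul, mul_div_assoc]
      congr 2
      congr 1
      ring
    rw [h1]
    exact ((eff_of_ggc hgg).pow _).mul (K31.GoodRow.eff_pull f (hEe.pow _))
  have hsub := hKv X n hn HX hHX Z HZ hHZ f hf ω hω _ hL' N hN r D hD α hα hM' X (𝟙 X) rfl HX hHX (by rw [pull_id]; exact hpos)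
    (s * (ν * e)) (by positivity) (mk HZ hHZ.1 ^ (N * s)) (((amp_mk hHZ.1).mpr hHZ).pow (by positivity)) hE b c hc
  obtain ⟨i⟩ := S0927.result f (CohB1.tensorMod ω L) K (Groth.Agent.S5683.isFinLocFree_of_isInvertible hK) b
  obtain ⟨j⟩ : Nonempty (CohB1.tensorMod ((Scheme.Modules.pullback f).obj K) (CohB1.tensorMod ω L) ≅
      CohB1.tensorMod ω (CohB1.tensorMod L ((Scheme.Modules.pullback f).obj K))) := by
    rw [← mc_eq_iff, mc_tensor, mc_tensor, mc_tensor, mc_tensor, mul_comm, mul_assoc]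
  exact (hmapEquiv k Z (i ≪≫ (Coh.Rpush f b).mapIso j) c).toEquiv.subsingleton

end Groth.Agent.Vanish.K912.KolRows
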