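import Groth.Agent.Vanish.K912.KolRows
import Groth.Agent.Vanish.K31.Dlem
import Groth.Agent.Vanish.K31.GoodIit
import Groth.Agent.Vanish.K88.Sat
import Groth.Agent.Vanish.K909.AltThm
import Groth.Agent.Vanish.K95.KolVD
import Groth.Agent.Vanish.K661.Final
import Groth.Agent.S17103

/-!
# Kollár vanishing with a divisor: the inputs are theorems
-/

set_option autoImplicit false
universe u
open CategoryTheory CategoryTheory.Limits AlgebraicGeometry Opposite TopologicalSpace
open Groth.Agent Groth.Agent.Grpsch.PicGrp Groth.Agent.Fga.JacFactor Groth.Agent.Divis.EffCartier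
  Groth.Agent.Fdesc.LocGen Groth.Agent.Fga.PicMon
open K931.Eff K660.Semi K660.InjP K909.Kleiman K910.HZ K660.KolUp K31.GoodA K909.AltInterface

namespace Groth.Agent.Vanish.K912.KolFin

open K912.KolRows

theorem dlem (k : Type u) [Field k] : K31.Good.Dlem.{u} k :=
  K31.Dlem.dlem fun ψ _ hconn => K88.Sat.sat ψ hconn

theorem ev (k : Type u) [Field k] [IsAlgClosed k] [CharZero k] : EV.{u} k :=
  fun X _ _ _ _ n hn H hH L Linv hL hLinv N hN r D hD a ha h mu b =>
    Groth.Agent.S17103.result k X n hn H hH L Linv hL hLinv N hN D hD a ha h mu b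

theorem kolvD (k : Type u) [Field k] [IsAlgClosed k] [CharZero k] : KolvD.{u} k := by
  intro X _ _ _ _ n hn HX hHX Z _ _ _ HZ hHZ f hf _ ω hω L hL N hN r D hD α hα hM X₁ p _ _ _ _ hdim A₁ hA₁ hP μ hμ a ha hE
    _ b c hc
  obtain ⟨Ha, hHa, rfl, hAmp⟩ := ha
  have hEc : BlowUp.IsEffCartierIdeal (∏ j, D j ^ α j) :=
    K661.MemPull.isEff_prod_pow' _ D (fun j => K911.Ncd.isEff_of_isNCD hD j) α
  rw [mk_tw hL N hM hEc] at hP hE
  exact K95.KolVD.main (K909.AltThm.alt k) (K661.TwDescMain.twDesc k) (ev k) n X hn HX hHX Z Ha hAmp f hf ω hω L hL N hN D hD α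
    (fun j => (hα j).2) hEc
    ⟨X₁, p, A₁, inferInstance, inferInstance, inferInstance, inferInstance, hdim, hA₁, hP⟩ μ hE b c hc

end Groth.Agent.Vanish.K912.KolFin
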